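import Groth.Agent.Lib.Tor.FlatOfTorsion
import Groth.Agent.H25.DiagTor.PD
import Mathlib.RingTheory.Unramified.Finite
import Mathlib.RingTheory.Polynomial.Basic
import Mathlib.Algebra.Polynomial.Basis
import Mathlib.RingTheory.Localization.BaseChange

/-!
# Flat dimension, elementwise

`FD A n X`: tensoring any exact complex of flat modules with `X` stays exact in degrees `> n`.
-/

set_option autoImplicit false

universe u

open TensorProduct

namespace Groth.Agent.H20.HyperTor

/-- `X` has flat dimension at most `n`, stated on exact complexes of flat modules. -/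
def FD (A : Type u) [CommRing A] (n : ℕ) (X : Type u) [AddCommGroup X] [Module A X] : Prop :=
  ∀ (P : ℕ → Type u) [∀ i, AddCommGroup (P i)] [∀ i, Module A (P i)] (d : ∀ i, P (i + 1) →ₗ[A] P i),
    (∀ i, Module.Flat A (P i)) → (∀ i, Function.Exact (d (i + 1)) (d i)) →
      ∀ i, n ≤ i → Function.Exact (LinearMap.lTensor X (d (i + 1))) (LinearMap.lTensor X (d i))

variable {A : Type u} [CommRing A] {n : ℕ} {X Y Z : Type u} [AddCommGroup X] [Module A X]
  [AddCommGroup Y] [Module A Y] [AddCommGroup Z] [Module A Z]

theorem fd_of_flat [Module.Flat A X] : FD A 0 X := fun _ _ _ _ _ he i _ =>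
  Module.Flat.lTensor_exact X (he i)

theorem FD.mono {m : ℕ} (h : FD A n X) (hnm : n ≤ m) : FD A m X := fun P _ _ d hf he i hi =>
  h P d hf he i (hnm.trans hi)

theorem FD.retract (h : FD A n X) (f : Y →ₗ[A] X) (g : X →ₗ[A] Y) (hgf : ∀ y, g (f y) = y) :
    FD A n Y := fun P _ _ d hf he i hi z => by
  refine ⟨fun hz => ?_, fun ⟨w, hw⟩ => ?_⟩
  · obtain ⟨w, hw⟩ := (h P d hf he i hi (LinearMap.rTensor _ f z)).1 (by
      rw [← LinearMap.comp_apply, LinearMap.lTensor_comp_rTensor, ← LinearMap.rTensor_comp_lTensor,
        LinearMap.comp_apply, hz, map_zero])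
    refine ⟨LinearMap.rTensor _ g w, ?_⟩
    rw [← LinearMap.comp_apply, LinearMap.lTensor_comp_rTensor, ← LinearMap.rTensor_comp_lTensor,
      LinearMap.comp_apply, hw, ← LinearMap.comp_apply, ← LinearMap.rTensor_comp,
      show g ∘ₗ f = LinearMap.id from LinearMap.ext hgf, LinearMap.rTensor_id, LinearMap.id_apply]
  · rw [← hw, ← LinearMap.comp_apply, ← LinearMap.lTensor_comp, (he i).linearMap_comp_eq_zero,
      LinearMap.lTensor_zero, LinearMap.zero_apply]

/-- The cokernel of an injection. -/
theorem FD.coker (hY : FD A n Y) (hX : FD A n X) (j : Y →ₗ[A] X) (p : X →ₗ[A] Z)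
    (hj : Function.Injective j) (hp : Function.Surjective p) (hex : Function.Exact j p) :
    FD A (n + 1) Z := fun P _ _ d hf he i hi z => by
  refine ⟨fun hz => ?_, fun ⟨w, hw⟩ => ?_⟩
  swap
  · rw [← hw, ← LinearMap.comp_apply, ← LinearMap.lTensor_comp, (he i).linearMap_comp_eq_zero,
      LinearMap.lTensor_zero, LinearMap.zero_apply]
  obtain ⟨i, rfl⟩ : ∃ k, i = k + 1 := ⟨i - 1, by omega⟩
  have hcomm : ∀ {U V : Type u} [AddCommGroup U] [Module A U] [AddCommGroup V] [Module A V] (f : U →ₗ[A] V)
      (k : ℕ) (x : U ⊗[A] P (k + 1)), LinearMap.lTensor V (d k) (LinearMap.rTensor _ f x) =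
        LinearMap.rTensor _ f (LinearMap.lTensor U (d k) x) := fun f k x => by
    rw [← LinearMap.comp_apply, LinearMap.lTensor_comp_rTensor, ← LinearMap.rTensor_comp_lTensor,
      LinearMap.comp_apply]
  obtain ⟨x, rfl⟩ := LinearMap.rTensor_surjective _ hp z
  obtain ⟨y, hy⟩ := (rTensor_exact (P (i + 1)) hex hp (LinearMap.lTensor X (d (i + 1)) x)).1 (by
    rw [← hcomm, hz])
  haveI := hf i
  obtain ⟨v, hv⟩ := (hY P d hf he i (by omega) y).1
    (Module.Flat.rTensor_preserves_injective_linearMap j hj (by
      rw [map_zero, ← hcomm, hy, ← LinearMap.comp_apply, ← LinearMap.lTensor_comp,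
        (he i).linearMap_comp_eq_zero, LinearMap.lTensor_zero, LinearMap.zero_apply]))
  obtain ⟨w, hw⟩ := (hX P d hf he (i + 1) (by omega) (x - LinearMap.rTensor _ j v)).1 (by
    rw [map_sub, hcomm, hv, hy, sub_self])
  refine ⟨LinearMap.rTensor _ p w, ?_⟩
  rw [hcomm, hw, map_sub, (rTensor_exact _ hex hp).apply_apply_eq_zero, sub_zero]

/-- Vanishing of Tor above `n` bounds the flat dimension. -/
theorem fd_of_torLE : ∀ (n : ℕ) (M : Type u) [AddCommGroup M] [Module A M],
    H25.DiagTor.TorLE A M n → FD A n M := by
  intro n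
  induction n with
  | zero =>
    intro M _ _ h
    let Q := CategoryTheory.projectiveResolution (ModuleCat.of A M)
    haveI : Module.Flat A M := Lib.Tor.FlatOfTorsion.flat_of_Z (ModuleCat.of A M) Q fun J =>
      Lib.Tor.FlatOfTorsion.z_of_isZero_tor _ Q 0 (ModuleCat.of A (A ⧸ J)) (h _ 0 le_rfl)
    exact fd_of_flat
  | succ n ih =>
    intro M _ _ h
    let f : (M →₀ A) →ₗ[A] M := Finsupp.linearCombination A id
    have hf : Function.Surjective f := Finsupp.linearCombination_id_surjective A M
    exact FD.coker (ih _ (H25.DiagTor.torLE_ker hf h)) ((fd_of_flat (X := M →₀ A)).mono n.zero_le)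
      (LinearMap.ker f).subtype f (Submodule.injective_subtype _) hf (LinearMap.exact_subtype_ker_map f)

section Algebra

variable {C : Type u} [CommRing C] [Algebra A C]

/-- Flat base change. -/
theorem FD.baseChange [Module.Flat A C] (h : FD A n X) : FD C n (C ⊗[A] X) := by
  intro P _ _ d hf he i hi
  letI : ∀ i, Module A (P i) := fun i => Module.compHom _ (algebraMap A C)
  haveI : ∀ i, IsScalarTower A C (P i) := fun i => IsScalarTower.of_algebraMap_smul fun _ _ => rfl
  have h' := h P (fun i => (d i).restrictScalars A) (fun i => by haveI := hf i; exact Module.Flat.trans A C (P i))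
    he i hi
  let e : ∀ k, (C ⊗[A] X) ⊗[C] P k ≃+ X ⊗[A] P k := fun k =>
    ((TensorProduct.comm C (C ⊗[A] X) (P k)).toAddEquiv.trans
      (TensorProduct.AlgebraTensorModule.cancelBaseChange A C C (P k) X).toAddEquiv).trans
      (TensorProduct.comm A (P k) X).toAddEquiv
  have hnat : ∀ k (z : (C ⊗[A] X) ⊗[C] P (k + 1)),
      e k (LinearMap.lTensor _ (d k) z) = LinearMap.lTensor X ((d k).restrictScalars A) (e (k + 1) z) := by
    intro k z
    induction z using TensorProduct.induction_on with
    | zero => simp
    | add a b ha hb => simp only [map_add, ha, hb]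
    | tmul cx p =>
      induction cx using TensorProduct.induction_on with
      | zero => simp
      | add a b ha hb => simp only [TensorProduct.add_tmul, map_add, ha, hb]
      | tmul c x => simp [e]
  intro z
  refine ⟨fun hz => ?_, fun ⟨w, hw⟩ => ?_⟩
  · obtain ⟨w, hw⟩ := (h' (e (i + 1) z)).1 (by rw [← hnat, hz, map_zero])
    refine ⟨(e (i + 2)).symm w, (e (i + 1)).injective ?_⟩
    rw [hnat, AddEquiv.apply_symm_apply, hw]
  · rw [← hw, ← LinearMap.comp_apply, ← LinearMap.lTensor_comp, (he i).linearMap_comp_eq_zero,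
      LinearMap.lTensor_zero, LinearMap.zero_apply]

variable {M : Type u} [AddCommGroup M] [Module A M] [Module C M] [IsScalarTower A C M]

/-- A flat base change of the module, computed over the smaller ring. -/
theorem FD.tensor (D : Type u) [CommRing D] [Algebra C D] [Algebra A D] [IsScalarTower A C D] [Module.Flat C D]
    (h : FD A n M) : FD A n (D ⊗[C] M) := by
  intro P _ _ d hf he i hi
  let e : ∀ k, (D ⊗[C] M) ⊗[A] P k ≃ₗ[C] D ⊗[C] (M ⊗[A] P k) := fun k =>
    TensorProduct.AlgebraTensorModule.assoc A C C D M (P k)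
  refine Function.Exact.of_ladder_linearEquiv_of_exact (R := A)
    (e₁ := ((e (i + 2)).restrictScalars A).symm) (e₂ := ((e (i + 1)).restrictScalars A).symm)
    (e₃ := ((e i).restrictScalars A).symm)
    (f₁₂ := ((TensorProduct.AlgebraTensorModule.lTensor C M (d (i + 1))).lTensor D).restrictScalars A)
    (f₂₃ := ((TensorProduct.AlgebraTensorModule.lTensor C M (d i)).lTensor D).restrictScalars A) ?_ ?_ ?_
  · apply LinearMap.ext
    intro z
    induction z using TensorProduct.induction_on with
    | zero => simp
    | add a b ha hb => simp only [map_add, ha, hb]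
    | tmul c w =>
      induction w using TensorProduct.induction_on with
      | zero => simp
      | add a b ha hb => simp only [TensorProduct.tmul_add, map_add, ha, hb]
      | tmul x p => rfl
  · apply LinearMap.ext
    intro z
    induction z using TensorProduct.induction_on with
    | zero => simp
    | add a b ha hb => simp only [map_add, ha, hb]
    | tmul c w =>
      induction w using TensorProduct.induction_on with
      | zero => simp
      | add a b ha hb => simp only [TensorProduct.tmul_add, map_add, ha, hb]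
      | tmul x p => rfl
  · exact Module.Flat.lTensor_exact D (h P d hf he i hi :)

/-- A module over a flat algebra: flat dimension over the big ring gives it over the small one after
flat epimorphic base change. -/
theorem FD.ofFlat [Module.Flat A C] (h : FD C n M) : FD A n M := by
  intro P _ _ d hf he i hi
  have h' := h (fun i => C ⊗[A] P i) (fun i => (d i).baseChange C) (fun i => by haveI := hf i; infer_instance)
    (fun i => Module.Flat.lTensor_exact C (he i)) i hi
  let e : ∀ k, M ⊗[C] (C ⊗[A] P k) ≃ₗ[A] M ⊗[A] P k := fun k =>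
    (TensorProduct.AlgebraTensorModule.cancelBaseChange A C C M (P k)).restrictScalars A
  refine Function.Exact.of_ladder_linearEquiv_of_exact (R := A)
    (e₁ := e (i + 2)) (e₂ := e (i + 1)) (e₃ := e i)
    (f₁₂ := (((d (i + 1)).baseChange C).lTensor M).restrictScalars A)
    (f₂₃ := (((d i).baseChange C).lTensor M).restrictScalars A) ?_ ?_ h'
  all_goals
    apply LinearMap.ext
    intro z
    induction z using TensorProduct.induction_on with
    | zero => simp
    | add a b ha hb => simp only [map_add, ha, hb]
    | tmul c w =>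
      induction w using TensorProduct.induction_on with
      | zero => simp
      | add a b ha hb => simp only [TensorProduct.tmul_add, map_add, ha, hb]
      | tmul x p => simp [e]

/-- One polynomial variable costs one. -/
theorem FD.polynomial (φ : Polynomial A ≃ₐ[A] C) (h : FD A n M) : FD C (n + 1) M := by
  classical
  haveI : Module.Free A C := Module.Free.of_equiv φ.toLinearEquiv
  let b : Module.Basis ℕ A C := (Polynomial.basisMonomials A).map φ.toLinearEquiv
  let x : C := φ Polynomial.X
  have hb : ∀ k, b k = x ^ k := fun k => by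
    simp [b, x, Polynomial.coe_basisMonomials, ← Polynomial.X_pow_eq_monomial]
  let mu : M →ₗ[A] M := Algebra.lsmul A A M x
  let j : C ⊗[A] M →ₗ[C] C ⊗[A] M := x • LinearMap.id - LinearMap.baseChange C mu
  let p : C ⊗[A] M →ₗ[C] M :=
    TensorProduct.AlgebraTensorModule.lift ((Algebra.lsmul C C M).toLinearMap.flip.restrictScalars A).flip
  have hp1 : ∀ y, p (1 ⊗ₜ y) = y := fun y => by simp [p]
  have hj1 : ∀ (c : C) (y : M), j (c ⊗ₜ y) = (x * c) ⊗ₜ y - c ⊗ₜ (x • y) := fun c y => by
    simp [j, mu, TensorProduct.smul_tmul']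
  have hpj : ∀ z, p (j z) = 0 := fun z => by
    induction z using TensorProduct.induction_on with
    | zero => simp
    | add a b ha hb => simp only [map_add, ha, hb, add_zero]
    | tmul c y => rw [hj1]; simp [p, mul_smul, smul_comm c x]
  have hgen : ∀ z, z - 1 ⊗ₜ p z ∈ LinearMap.range j := by
    intro z
    induction z using TensorProduct.induction_on with
    | zero => simp
    | add a b ha hb =>
      rw [map_add, TensorProduct.tmul_add, add_sub_add_comm]
      exact add_mem ha hb
    | tmul c y =>
      have hc : c ∈ Submodule.span A (Set.range b) := b.span_eq ▸ Submodule.mem_top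
      induction hc using Submodule.span_induction with
      | mem c hc =>
        obtain ⟨k, rfl⟩ := hc
        rw [hb]
        induction k generalizing y with
        | zero => simp [hp1]
        | succ k ih =>
          have h2 : p ((x ^ (k + 1)) ⊗ₜ y) = p ((x ^ k) ⊗ₜ (x • y)) := by simp [p, pow_succ, mul_smul]
          have h3 : (x ^ (k + 1)) ⊗ₜ[A] y - 1 ⊗ₜ p ((x ^ (k + 1)) ⊗ₜ y) =
              j ((x ^ k) ⊗ₜ y) + ((x ^ k) ⊗ₜ[A] (x • y) - 1 ⊗ₜ p ((x ^ k) ⊗ₜ (x • y))) := by
            rw [h2, hj1, pow_succ']; abel
          rw [h3]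
          exact add_mem ⟨_, rfl⟩ (ih _)
      | zero => simp
      | add a b _ _ ha hb =>
        rw [TensorProduct.add_tmul, map_add, TensorProduct.tmul_add, add_sub_add_comm]
        exact add_mem ha hb
      | smul a c _ hc =>
        have h5 : (a • c) ⊗ₜ[A] y - 1 ⊗ₜ p ((a • c) ⊗ₜ y) =
            algebraMap A C a • (c ⊗ₜ[A] y - 1 ⊗ₜ p (c ⊗ₜ y)) := by
          rw [smul_sub, algebraMap_smul, algebraMap_smul, TensorProduct.smul_tmul', ← TensorProduct.tmul_smul]
          congr 2
          simp [p]
        rw [h5]
        exact Submodule.smul_mem _ _ hc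
  let eq := TensorProduct.equivFinsuppOfBasisLeft b (N := M)
  have hcoef : ∀ (z : C ⊗[A] M) (k : ℕ), eq (j z) (k + 1) = eq z k - x • eq z (k + 1) := by
    intro z k
    induction z using TensorProduct.induction_on with
    | zero => simp
    | add a b ha hb => simp only [map_add, Finsupp.add_apply, ha, hb, smul_add]; abel
    | tmul c y =>
      have hc : c ∈ Submodule.span A (Set.range b) := b.span_eq ▸ Submodule.mem_top
      induction hc using Submodule.span_induction with
      | mem c hc =>
        obtain ⟨l, rfl⟩ := hc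
        rw [hj1, show x * b l = b (l + 1) by rw [hb, hb, pow_succ']]
        simp [eq, Finsupp.single_apply]
      | zero => simp
      | add a b _ _ ha hb =>
        simp only [TensorProduct.add_tmul, map_add, Finsupp.add_apply, ha, hb, smul_add]; abel
      | smul a c _ hc =>
        simp only [← TensorProduct.smul_tmul', LinearMap.map_smul_of_tower, map_smul, Finsupp.smul_apply, hc, smul_sub,
          smul_comm x a]
  have hinj : Function.Injective j := by
    refine (injective_iff_map_eq_zero j).2 fun z hz => eq.injective ?_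
    rw [map_zero]
    by_contra hne
    have hs : (eq z).support.Nonempty := Finsupp.support_nonempty_iff.2 hne
    have hk := Finset.max'_mem _ hs
    refine Finsupp.mem_support_iff.1 hk ?_
    have h1 : eq z ((eq z).support.max' hs + 1) = 0 := Finsupp.notMem_support_iff.1 fun hmem =>
      absurd (Finset.le_max' _ _ hmem) (by omega)
    have h2 := hcoef z ((eq z).support.max' hs)
    rw [hz, map_zero, Finsupp.zero_apply, h1, smul_zero, sub_zero] at h2
    exact h2.symm
  have hbc := h.baseChange (C := C)
  exact FD.coker hbc hbc j p hinj (fun y => ⟨_, hp1 y⟩)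
    (fun z => ⟨fun hz => by have := hgen z; rwa [hz, TensorProduct.tmul_zero, sub_zero] at this,
      fun ⟨w, hw⟩ => hw ▸ hpj w⟩)

/-- Unramified flat algebras do not increase flat dimension. -/
theorem FD.unramified [Module.Flat A C] [Algebra.FormallyUnramified A C] [Algebra.EssFiniteType A C]
    (h : FD A n M) : FD C n M :=
  (h.baseChange (C := C)).retract (Algebra.FormallyUnramified.sec A C M)
    (TensorProduct.AlgebraTensorModule.lift ((Algebra.lsmul C C M).toLinearMap.flip.restrictScalars A).flip)
    (LinearMap.congr_fun (Algebra.FormallyUnramified.comp_sec A C M))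

end Algebra

/-- Flat dimension is local. -/
theorem fd_of_locally (h : ∀ P : Ideal A, P.IsPrime → ∃ s ∉ P, FD A n (Localization.Away s ⊗[A] X)) :
    FD A n X := by
  intro P _ _ d hf he i hi z
  refine ⟨fun hz => ?_, fun ⟨w, hw⟩ => ?_⟩
  swap
  · rw [← hw, ← LinearMap.comp_apply, ← LinearMap.lTensor_comp, (he i).linearMap_comp_eq_zero,
      LinearMap.lTensor_zero, LinearMap.zero_apply]
  let I : Ideal A := Submodule.colon (LinearMap.range (LinearMap.lTensor X (d (i + 1)))) {z}
  suffices hI : I = ⊤ by
    have := hI ▸ (Submodule.mem_top : (1 : A) ∈ (⊤ : Ideal A))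
    rw [Submodule.mem_colon_singleton, one_smul] at this
    exact this
  by_contra hne
  obtain ⟨𝔪, h𝔪, hle⟩ := Ideal.exists_le_maximal I hne
  obtain ⟨s, hs, hfd⟩ := h 𝔪 h𝔪.isPrime
  let f : X →ₗ[A] Localization.Away s ⊗[A] X := TensorProduct.mk A _ X 1
  haveI : IsLocalizedModule (Submonoid.powers s) f :=
    (isLocalizedModule_iff_isBaseChange (Submonoid.powers s) (Localization.Away s) f).2
      (TensorProduct.isBaseChange A X (Localization.Away s))
  have hc : ∀ k (w : X ⊗[A] P (k + 1)), LinearMap.lTensor _ (d k) (LinearMap.rTensor _ f w) =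
      LinearMap.rTensor _ f (LinearMap.lTensor X (d k) w) := fun k w => by
    rw [← LinearMap.comp_apply, LinearMap.lTensor_comp_rTensor, ← LinearMap.rTensor_comp_lTensor,
      LinearMap.comp_apply]
  obtain ⟨w, hw⟩ := (hfd P d hf he i hi (LinearMap.rTensor _ f z)).1 (by rw [hc, hz, map_zero])
  have hloc : ∀ k, IsLocalizedModule (Submonoid.powers s) (LinearMap.rTensor (P k) f) := fun k =>
    inferInstanceAs (IsLocalizedModule (Submonoid.powers s) (TensorProduct.AlgebraTensorModule.rTensor A (P k) f))
  haveI := hloc (i + 1); haveI := hloc (i + 1 + 1)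
  obtain ⟨⟨w', t⟩, hwt⟩ := IsLocalizedModule.surj (Submonoid.powers s) (LinearMap.rTensor (P (i + 1 + 1)) f) w
  have h1 : LinearMap.rTensor _ f ((t : A) • z) = LinearMap.rTensor _ f (LinearMap.lTensor X (d (i + 1)) w') := by
    rw [← hc, ← hwt, Submonoid.smul_def, map_smul, map_smul, hw]
  obtain ⟨t', ht'⟩ := IsLocalizedModule.exists_of_eq (S := Submonoid.powers s) h1
  have hmem : (t' : A) * (t : A) ∈ I := by
    rw [Submodule.mem_colon_singleton]
    refine ⟨(t' : A) • w', ?_⟩
    rw [map_smul, mul_smul]
    exact ht'.symm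
  rcases h𝔪.isPrime.mem_or_mem (hle hmem) with hm | hm
  · obtain ⟨k, hk⟩ := t'.2
    exact hs (h𝔪.isPrime.mem_of_pow_mem k ((show s ^ k = _ from hk) ▸ hm))
  · obtain ⟨k, hk⟩ := t.2
    exact hs (h𝔪.isPrime.mem_of_pow_mem k ((show s ^ k = _ from hk) ▸ hm))

end Groth.Agent.H20.HyperTor
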