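import Groth.Agent.H20.HyperTor.FD
import Mathlib.LinearAlgebra.TensorProduct.Prod
import Mathlib.RingTheory.Derivation.Basic
import Mathlib.LinearAlgebra.Finsupp.LSum

/-!
# Lifting a free resolution over a hypersurface

For `g ∈ B` and a `B`-module `N` killed by `g`, free `B`-modules `F i` and maps `D i` with
`D ∘ D = g • S`, whose reduction modulo `g` resolves `N`.
-/

set_option autoImplicit false

universe u

open TensorProduct

namespace Groth.Agent.H20.HyperTor

variable {B : Type u} [CommRing B]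

/-- A system of lifted differentials. -/
structure LiftSys (g : B) where
  J : ℕ → Type u
  D : ∀ i, (J (i + 1) →₀ B) →ₗ[B] (J i →₀ B)
  S : ∀ i, (J (i + 2) →₀ B) →ₗ[B] (J i →₀ B)
  sq : ∀ i x, D i (D (i + 1) x) = g • S i x
  exact : ∀ i x z, D (i + 1) x = g • z → ∃ u v, x = D (i + 2) u + g • v

section construction

variable (g : B) (N : Type u) [AddCommGroup N] [Module B N]

/-- The index types with the submodules to be covered. -/
noncomputable def st : ℕ → Σ ι : Type u, Submodule B (ι →₀ B)
  | 0 => ⟨PEmpty, ⊥⟩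
  | 1 => ⟨N, LinearMap.ker (Finsupp.linearCombination B (id : N → N))⟩
  | i + 2 => ⟨↥(st (i + 1)).2,
      (LinearMap.range (g • (LinearMap.id : ((st (i + 1)).1 →₀ B) →ₗ[B] _))).comap
        (Finsupp.linearCombination B (Subtype.val : ↥(st (i + 1)).2 → _))⟩

/-- The differentials. -/
noncomputable def dd : ∀ i, ((st g N (i + 1)).1 →₀ B) →ₗ[B] ((st g N i).1 →₀ B)
  | 0 => 0
  | i + 1 => Finsupp.linearCombination B (Subtype.val : ↥(st g N (i + 1)).2 → _)

theorem dd_range (i : ℕ) : LinearMap.range (dd g N (i + 1)) = (st g N (i + 1)).2 := by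
  change LinearMap.range (Finsupp.linearCombination B (Subtype.val : ↥(st g N (i + 1)).2 → _)) = _
  rw [Finsupp.range_linearCombination, Subtype.range_coe_subtype]
  exact Submodule.span_eq _

theorem dd_sq (i : ℕ) (x) : ∃ z, dd g N i (dd g N (i + 1) x) = g • z := by
  cases i with
  | zero => exact ⟨0, by simp [dd]⟩
  | succ i =>
    have h : dd g N (i + 2) x ∈ (st g N (i + 2)).2 := dd_range g N (i + 1) ▸ LinearMap.mem_range_self _ x
    obtain ⟨z, hz⟩ := h
    exact ⟨z, hz.symm⟩

/-- The lifted resolution of `N`. -/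
noncomputable def LiftSys.mk' : LiftSys g where
  J i := (st g N i).1
  D := dd g N
  S i := Finsupp.linearCombination B fun k => (dd_sq g N i (Finsupp.single k 1)).choose
  sq i x := by
    induction x using Finsupp.induction_linear with
    | zero => simp
    | add a b ha hb => simp only [map_add, ha, hb, smul_add]
    | single k b =>
      rw [← Finsupp.smul_single_one k b, map_smul, map_smul, map_smul, Finsupp.linearCombination_single, one_smul]
      exact (congrArg (b • ·) (dd_sq g N i (Finsupp.single k 1)).choose_spec).trans (smul_comm b g _)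
  exact i x z h := by
    have hx : x ∈ (st g N (i + 2)).2 := ⟨z, h.symm⟩
    rw [← dd_range g N (i + 1)] at hx
    obtain ⟨u, rfl⟩ := hx
    exact ⟨u, 0, by simp⟩

/-- The augmentation. -/
noncomputable def aug : ((st g N 1).1 →₀ B) →ₗ[B] N := Finsupp.linearCombination B (id : N → N)

theorem aug_surjective : Function.Surjective (aug g N) := Finsupp.linearCombination_id_surjective B N

theorem ker_aug : LinearMap.ker (aug g N) = LinearMap.range (dd g N 1) := (dd_range g N 0).symm

end construction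

namespace LiftSys

variable {g : B} (L : LiftSys g) (M : Type u) [AddCommGroup M] [Module B M]

/-- The total complex of the system: a free resolution over `B`. -/
def P (i : ℕ) : Type u := (L.J (i + 1) →₀ B) × (L.J i →₀ B)

noncomputable instance (i : ℕ) : AddCommGroup (L.P i) :=
  inferInstanceAs (AddCommGroup ((L.J (i + 1) →₀ B) × (L.J i →₀ B)))

noncomputable instance (i : ℕ) : Module B (L.P i) :=
  inferInstanceAs (Module B ((L.J (i + 1) →₀ B) × (L.J i →₀ B)))

instance (i : ℕ) : Module.Free B (L.P i) :=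
  inferInstanceAs (Module.Free B ((L.J (i + 1) →₀ B) × (L.J i →₀ B)))

/-- Its differential. -/
noncomputable def δ (i : ℕ) : L.P (i + 1) →ₗ[B] L.P i :=
  LinearMap.prod (LinearMap.coprod (L.D (i + 1)) (g • LinearMap.id))
    (LinearMap.coprod (-L.S i) (-L.D i))

theorem δ_apply (i : ℕ) (x : L.J (i + 2) →₀ B) (y : L.J (i + 1) →₀ B) :
    L.δ i (x, y) = (L.D (i + 1) x + g • y, -L.S i x + -L.D i y) := rfl

theorem cancel_g (hg : IsSMulRegular B g) {ι : Type u} {x y : ι →₀ B} (h : g • x = g • y) : x = y := by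
  ext k
  exact hg (by simpa using DFunLike.congr_fun h k)

theorem δ_exact (hg : IsSMulRegular B g) (i : ℕ) : Function.Exact (L.δ (i + 1)) (L.δ i) := by
  rintro ⟨x, y⟩
  constructor
  · intro h
    rw [δ_apply] at h
    obtain ⟨h1, h2⟩ := Prod.ext_iff.1 h
    obtain ⟨u, v, rfl⟩ := L.exact i x (-y) (by rw [smul_neg]; exact eq_neg_of_add_eq_zero_left h1)
    refine ⟨(u, v), ?_⟩
    rw [δ_apply]
    refine Prod.ext rfl (cancel_g hg ?_)
    change L.D (i + 1) (L.D (i + 2) u + g • v) + g • y = 0 at h1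
    rw [eq_neg_of_add_eq_zero_right h1, map_add, L.sq, map_smul, smul_add, smul_neg, smul_neg, neg_add]
  · rintro ⟨⟨u, v⟩, h⟩
    rw [← h, δ_apply, δ_apply]
    refine Prod.ext ?_ ?_
    · change L.D (i + 1) (L.D (i + 2) u + g • v) + g • (-L.S (i + 1) u + -L.D (i + 1) v) = 0
      rw [map_add, L.sq, map_smul, smul_add, smul_neg, smul_neg]
      abel
    · change -L.S i (L.D (i + 2) u + g • v) + -L.D i (-L.S (i + 1) u + -L.D (i + 1) v) = 0
      refine cancel_g hg ?_
      simp only [smul_zero, map_add, map_neg, map_smul, smul_add, smul_neg, neg_add_rev, neg_neg, L.sq]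
      rw [← L.sq i (L.D (i + 2) u), L.sq (i + 1) u, map_smul]
      abel

/-- The differential after tensoring with `M`. -/
noncomputable def dT (i : ℕ) : M ⊗[B] (L.J (i + 1) →₀ B) →ₗ[B] M ⊗[B] (L.J i →₀ B) :=
  LinearMap.lTensor M (L.D i)

/-- The periodicity map after tensoring with `M`. -/
noncomputable def sT (i : ℕ) : M ⊗[B] (L.J (i + 2) →₀ B) →ₗ[B] M ⊗[B] (L.J i →₀ B) :=
  LinearMap.lTensor M (L.S i)

variable {M}

theorem g_smul (hgM : ∀ m : M, g • m = 0) {Y : Type u} [AddCommGroup Y] [Module B Y] (z : M ⊗[B] Y) :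
    g • z = 0 := by
  induction z using TensorProduct.induction_on with
  | zero => simp
  | tmul m y => rw [TensorProduct.smul_tmul', hgM, TensorProduct.zero_tmul]
  | add a b ha hb => rw [smul_add, ha, hb, add_zero]

theorem dT_dT (hgM : ∀ m : M, g • m = 0) (i : ℕ) (z) : L.dT M i (L.dT M (i + 1) z) = 0 := by
  have h : L.D i ∘ₗ L.D (i + 1) = g • L.S i := LinearMap.ext fun x => L.sq i x
  rw [dT, dT, ← LinearMap.comp_apply, ← LinearMap.lTensor_comp, h, LinearMap.lTensor_smul, LinearMap.smul_apply,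
    g_smul hgM]

theorem dT_sT (hg : IsSMulRegular B g) (i : ℕ) (z) :
    L.dT M i (L.sT M (i + 1) z) = L.sT M i (L.dT M (i + 2) z) := by
  have h : L.D i ∘ₗ L.S (i + 1) = L.S i ∘ₗ L.D (i + 2) := LinearMap.ext fun x => cancel_g hg (by
    simp only [LinearMap.comp_apply]
    rw [← map_smul, ← L.sq (i + 1), L.sq])
  rw [dT, sT, ← LinearMap.comp_apply, ← LinearMap.lTensor_comp, h, LinearMap.lTensor_comp, LinearMap.comp_apply]
  rfl

/-- The consequence of the bound on the flat dimension. -/
theorem key (hg : IsSMulRegular B g) (hgM : ∀ m : M, g • m = 0) {d : ℕ} (hM : FD B d M) (i : ℕ) (hi : d ≤ i)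
    (x : M ⊗[B] (L.J (i + 2) →₀ B)) (y : M ⊗[B] (L.J (i + 1) →₀ B))
    (hx : L.dT M (i + 1) x = 0) (hy : L.sT M i x + L.dT M i y = 0) :
    ∃ u v, x = L.dT M (i + 2) u ∧ y = -L.sT M (i + 1) u - L.dT M (i + 1) v := by
  have hex := hM L.P L.δ (fun _ => inferInstance) (fun j => L.δ_exact hg j) i hi
  let e : ∀ k, M ⊗[B] L.P k ≃ₗ[B] (M ⊗[B] (L.J (k + 1) →₀ B)) × (M ⊗[B] (L.J k →₀ B)) := fun k =>
    TensorProduct.prodRight B B M _ _
  have hnat : ∀ k (z : M ⊗[B] L.P (k + 1)), e k (LinearMap.lTensor M (L.δ k) z) =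
      (L.dT M (k + 1) (e (k + 1) z).1, -L.sT M k (e (k + 1) z).1 + -L.dT M k (e (k + 1) z).2) := by
    intro k z
    induction z using TensorProduct.induction_on with
    | zero => simp only [map_zero, Prod.fst_zero, Prod.snd_zero, neg_zero, add_zero]; rfl
    | add a b ha hb =>
      simp only [map_add, ha, hb, Prod.mk_add_mk, Prod.fst_add, Prod.snd_add, neg_add]
      congr 1
      abel
    | tmul m p =>
      obtain ⟨a, b⟩ := p
      change e k (m ⊗ₜ[B] ((L.D (k + 1) a + g • b, -L.S k a + -L.D k b) : _ × _)) = _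
      simp only [e]
      erw [TensorProduct.prodRight_tmul, TensorProduct.prodRight_tmul]
      simp only [dT, sT, LinearMap.lTensor_tmul, TensorProduct.tmul_add, TensorProduct.tmul_neg,
        TensorProduct.tmul_smul, g_smul hgM, add_zero]
  obtain ⟨w, hw⟩ := (hex ((e (i + 1)).symm (x, y))).1 ((e i).injective (by
    rw [hnat, LinearEquiv.apply_symm_apply, map_zero, hx, ← neg_add, hy, neg_zero]
    rfl))
  refine ⟨(e (i + 2) w).1, (e (i + 2) w).2, ?_⟩
  have h := congrArg (e (i + 1)) hw
  rw [hnat, LinearEquiv.apply_symm_apply] at h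
  obtain ⟨h1, h2⟩ := Prod.ext_iff.1 h
  exact ⟨h1.symm, by rw [sub_eq_add_neg]; exact h2.symm⟩

/-- A derivation kills the homology in high degrees through its value at `g`. -/
theorem smul_mem_range (hg : IsSMulRegular B g) (hgM : ∀ m : M, g • m = 0) {d : ℕ} (hM : FD B d M)
    {A : Type u} [CommRing A] [Algebra A B] (δ' : Derivation A B B) (i : ℕ) (hi : d ≤ i)
    (y : M ⊗[B] (L.J (i + 1) →₀ B)) (hy : L.dT M i y = 0) :
    δ' g • y ∈ LinearMap.range (L.dT M (i + 1)) := by
  obtain ⟨u, v, hu, hv⟩ := L.key hg hgM hM i hi 0 y (map_zero _) (by rw [map_zero, zero_add, hy])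
  -- apply the derivation to coefficients
  let c : ∀ {ι : Type u}, (ι →₀ B) →+ (ι →₀ B) := Finsupp.mapRange.addMonoidHom δ'.toLinearMap.toAddMonoidHom
  have hc : ∀ {ι : Type u} (b : B) (x : ι →₀ B), c (b • x) = δ' b • x + b • c x := fun b x => by
    ext k
    simp [c, mul_comm, add_comm]
  let D' : ∀ k, (L.J (k + 1) →₀ B) →ₗ[B] (L.J k →₀ B) := fun k =>
    Finsupp.linearCombination B fun a => c (L.D k (Finsupp.single a 1))
  have hD' : ∀ k x, c (L.D k x) = D' k x + L.D k (c x) := by
    intro k x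
    induction x using Finsupp.induction_linear with
    | zero => simp
    | add a b ha hb => simp only [map_add, ha, hb]; abel
    | single a b =>
      rw [← Finsupp.smul_single_one a b, map_smul, hc, hc, map_add, map_smul, map_smul, map_smul,
        show c (Finsupp.single a (1 : B)) = 0 by ext; simp [c, Finsupp.single_apply, apply_ite δ'],
        map_zero, smul_zero, add_zero, add_comm]
      simp [D']
  let S' : (L.J (i + 3) →₀ B) →ₗ[B] (L.J (i + 1) →₀ B) :=
    Finsupp.linearCombination B fun a => c (L.S (i + 1) (Finsupp.single a 1))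
  have hid : δ' g • L.S (i + 1) = D' (i + 1) ∘ₗ L.D (i + 2) + L.D (i + 1) ∘ₗ D' (i + 2) - g • S' := by
    refine Finsupp.lhom_ext' fun a => LinearMap.ext_ring ?_
    have h := congrArg c (L.sq (i + 1) (Finsupp.single a 1))
    rw [hD', hD', hc, show c (Finsupp.single a (1 : B)) = 0 by ext; simp [c, Finsupp.single_apply, apply_ite δ'],
      map_zero, add_zero] at h
    simp only [LinearMap.comp_apply, Finsupp.lsingle_apply, LinearMap.sub_apply, LinearMap.add_apply,
      LinearMap.smul_apply]
    rw [eq_sub_iff_add_eq, h]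
    simp [S']
  have h1 : δ' g • L.sT M (i + 1) u ∈ LinearMap.range (L.dT M (i + 1)) := by
    have h2 := LinearMap.congr_fun (congrArg (LinearMap.lTensor M) hid) u
    rw [LinearMap.lTensor_smul, LinearMap.lTensor_sub, LinearMap.lTensor_add, LinearMap.lTensor_comp,
      LinearMap.lTensor_comp, LinearMap.lTensor_smul] at h2
    simp only [LinearMap.smul_apply, LinearMap.sub_apply, LinearMap.add_apply, LinearMap.comp_apply, g_smul hgM,
      sub_zero] at h2
    rw [sT, h2, show LinearMap.lTensor M (L.D (i + 2)) u = L.dT M (i + 2) u from rfl, ← hu, map_zero, zero_add]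
    exact ⟨_, rfl⟩
  rw [hv, smul_sub, smul_neg]
  exact sub_mem (neg_mem h1) (Submodule.smul_mem _ _ ⟨v, rfl⟩)

end LiftSys

end Groth.Agent.H20.HyperTor
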