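import Groth.Agent.H20.HyperTor.FD
import Mathlib.RingTheory.Smooth.StandardSmoothOfFree
import Mathlib.RingTheory.Smooth.StandardSmoothCotangent
import Mathlib.RingTheory.RingHom.StandardSmooth
import Mathlib.RingTheory.Spectrum.Prime.FreeLocus
import Mathlib.RingTheory.Kaehler.TensorProduct
import Mathlib.RingTheory.Etale.Kaehler

/-!
# Flat dimension along smooth algebras

A module of flat dimension `≤ m` over `A` has flat dimension `≤ m + n` over a smooth `A`-algebra of
relative dimension `n`.
-/

set_option autoImplicit false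

universe u

open TensorProduct

namespace Groth.Agent.H20.HyperTor

theorem fd_mvPolynomial : ∀ (k : ℕ) (A C : Type u) [CommRing A] [CommRing C] [Algebra A C],
    (MvPolynomial (Fin k) A ≃ₐ[A] C) → ∀ (M : Type u) [AddCommGroup M] [Module A M] [Module C M]
      [IsScalarTower A C M] (m : ℕ), FD A m M → FD C (m + k) M := by
  intro k
  induction k with
  | zero =>
    intro A C _ _ _ φ M _ _ _ _ m h
    have hsurj : Function.Surjective (algebraMap A C) := fun c => by
      obtain ⟨z, rfl⟩ := φ.surjective c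
      obtain ⟨a, rfl⟩ := (MvPolynomial.isEmptyAlgEquiv A (Fin 0)).symm.surjective z
      exact ⟨a, by simp⟩
    haveI : Module.Finite A C := Module.Finite.of_surjective (Algebra.linearMap A C) hsurj
    haveI : Module.Free A C := Module.Free.of_equiv φ.toLinearEquiv
    haveI : Algebra.FormallyUnramified A C :=
      Algebra.FormallyUnramified.of_surjective (Algebra.ofId A C) hsurj
    exact FD.unramified h
  | succ k ih =>
    intro A C _ _ _ φ M _ _ _ _ m h
    let C₁ := MvPolynomial (Fin k) A
    let ψ : Polynomial C₁ ≃ₐ[A] C := (MvPolynomial.finSuccEquiv A k).symm.trans φ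
    let g : C₁ →ₐ[A] C := ψ.toAlgHom.comp ((Polynomial.CAlgHom (R := C₁)).restrictScalars A)
    letI : Algebra C₁ C := g.toRingHom.toAlgebra
    haveI : IsScalarTower A C₁ C := IsScalarTower.of_algebraMap_eq fun a => (g.commutes a).symm
    letI : Module C₁ M := Module.compHom M (algebraMap C₁ C)
    haveI : IsScalarTower C₁ C M := IsScalarTower.of_algebraMap_smul fun _ _ => rfl
    haveI : IsScalarTower A C₁ M := IsScalarTower.of_algebraMap_smul fun a x => by
      change algebraMap C₁ C (algebraMap A C₁ a) • x = a • x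
      rw [← IsScalarTower.algebraMap_apply, algebraMap_smul]
    let ψ' : Polynomial C₁ ≃ₐ[C₁] C := AlgEquiv.ofRingEquiv (f := ψ.toRingEquiv) fun c => rfl
    exact FD.polynomial ψ' (ih A C₁ AlgEquiv.refl M m h)

theorem fd_smooth (A B : Type u) [CommRing A] [CommRing B] [Algebra A B] [Algebra.Smooth A B] (n : ℕ)
    (hn : ∀ p : PrimeSpectrum B, Module.rankAtStalk (Ω[B⁄A]) p = n) (M : Type u) [AddCommGroup M]
    [Module A M] [Module B M] [IsScalarTower A B M] (m : ℕ) (h : FD A m M) : FD B (m + n) M := by
  refine fd_of_locally fun P hP => ?_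
  obtain ⟨s, hs, hstd⟩ := Algebra.IsSmoothAt.exists_notMem_isStandardSmooth A P
  refine ⟨s, hs, ?_⟩
  let L := Localization.Away s
  obtain ⟨k, hk⟩ : ∃ k, Algebra.IsStandardSmoothOfRelativeDimension k A L := by
    obtain ⟨ι, σ, _, _, ⟨Pr⟩⟩ := hstd.out
    exact ⟨Pr.dimension, ⟨⟨ι, σ, ‹_›, ‹_›, Pr, rfl⟩⟩⟩
  obtain ⟨φ, hφ⟩ := Algebra.IsStandardSmoothOfRelativeDimension.exists_etale_mvPolynomial k (R := A) (S := L)
  have hkn : k = n := by
    haveI : Nontrivial L := ⟨⟨0, 1, fun h01 => by
      obtain ⟨⟨t, j, rfl⟩, ht⟩ := (IsLocalization.map_eq_zero_iff (Submonoid.powers s) L (1 : B)).1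
        (by rw [map_one]; exact h01.symm)
      simp only [mul_one] at ht
      exact hs (hP.mem_of_pow_mem j (ht ▸ P.zero_mem))⟩⟩
    haveI := hk
    haveI := Algebra.IsStandardSmoothOfRelativeDimension.isStandardSmooth k (R := A) (S := L)
    haveI : Module.Free L (Ω[L⁄A]) := inferInstance
    haveI : Module.Finite B (Ω[B⁄A]) := inferInstance
    obtain ⟨q⟩ : Nonempty (PrimeSpectrum L) := inferInstance
    have h1 := hn (PrimeSpectrum.comap (algebraMap B L) q)
    haveI : IsLocalizedModule (Submonoid.powers s) (KaehlerDifferential.map A A B L) :=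
      KaehlerDifferential.isLocalizedModule_map A B L _
    let e : L ⊗[B] Ω[B⁄A] ≃ₗ[L] Ω[L⁄A] :=
      ((isLocalizedModule_iff_isBaseChange (Submonoid.powers s) L (KaehlerDifferential.map A A B L)).1
        inferInstance).equiv
    have h2 := Module.rankAtStalk_eq_of_equiv e
    have h3 : Module.rankAtStalk (Ω[L⁄A]) q = n := by
      rw [← congrFun h2 q, Module.rankAtStalk_baseChange]; exact h1
    rw [Module.rankAtStalk_eq_finrank_of_free] at h3
    have h4 := Algebra.IsStandardSmoothOfRelativeDimension.rank_kaehlerDifferential (R := A) (S := L) k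
    rw [Pi.natCast_apply, Module.finrank, h4, Cardinal.toNat_natCast] at h3
    simpa using h3
  have h' := FD.tensor (A := A) (C := B) (M := M) L h
  letI : Algebra (MvPolynomial (Fin k) A) L := φ.toRingHom.toAlgebra
  haveI : IsScalarTower A (MvPolynomial (Fin k) A) L :=
    IsScalarTower.of_algebraMap_eq fun a => (φ.commutes a).symm
  haveI : Algebra.Etale (MvPolynomial (Fin k) A) L := hφ
  have h3 : FD (MvPolynomial (Fin k) A) (m + k) (L ⊗[B] M) :=
    fd_mvPolynomial k A _ AlgEquiv.refl _ m h'
  subst hkn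
  exact FD.ofFlat (A := B) (C := L) (M := L ⊗[B] M) (FD.unramified (A := MvPolynomial (Fin k) A) (C := L) h3)

end Groth.Agent.H20.HyperTor
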