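import Groth.Agent.H20.HyperTor.Lift
import Groth.Agent.Lib.Tor.Balance
import Mathlib.RingTheory.TensorProduct.Basic
import Mathlib.RingTheory.Ideal.Span

/-!
# `Tor` over a hypersurface

For `R = B/gB`, an `R`-module `M` of flat dimension `≤ d` over `B` and any `R`-module `N`: `Tor^R_q(M, N)`
is periodic for `q ≥ d` and annihilated by `δ g` for every derivation `δ` of `B`.
-/

set_option autoImplicit false

universe u

open TensorProduct CategoryTheory CategoryTheory.Limits

namespace Groth.Agent.H20.HyperTor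

theorem homology_iso {R : Type u} [CommRing R] (S : ShortComplex (ModuleCat.{u} R)) {T : Type u} [AddCommGroup T]
    [Module R T] (e : S.X₂ ≃ₗ[R] T) (K L : Submodule R T) (hK : ∀ x, S.g x = 0 ↔ e x ∈ K)
    (hL : ∀ x, (∃ w, S.f w = x) ↔ e x ∈ L) :
    Nonempty ((S.homology : ModuleCat.{u} R) ≃ₗ[R] (K ⧸ L.comap K.subtype)) := by
  have hmap : (LinearMap.ker S.g.hom).map (e : S.X₂ →ₗ[R] T) = K := by
    ext t
    rw [Submodule.mem_map_equiv, LinearMap.mem_ker]
    refine (hK _).trans ?_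
    rw [LinearEquiv.apply_symm_apply]
  let ek : LinearMap.ker S.g.hom ≃ₗ[R] K := e.ofSubmodules _ _ hmap
  refine ⟨S.moduleCatHomologyIso.toLinearEquiv.trans (Submodule.Quotient.equiv _ _ ek ?_)⟩
  ext t
  rw [Submodule.mem_map_equiv, Submodule.mem_comap, LinearMap.mem_range]
  have h := hL (ek.symm t : LinearMap.ker S.g.hom).1
  have he : e (ek.symm t : LinearMap.ker S.g.hom).1 = t.1 := by
    exact (LinearEquiv.ofSubmodules_apply (e := e) (h := hmap) _).symm.trans
      (congrArg Subtype.val (ek.apply_symm_apply t))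
  rw [he] at h
  refine Iff.trans ?_ h
  exact exists_congr fun w => ⟨fun hw => congrArg Subtype.val hw, fun hw => Subtype.ext hw⟩

variable {B R : Type u} [CommRing B] [CommRing R] [Algebra B R] {g : B}
  (hsurj : Function.Surjective (algebraMap B R)) (hker : RingHom.ker (algebraMap B R) = Ideal.span {g})
  (hg : IsSMulRegular B g)
  (M N : ModuleCat.{u} R) [Module B M] [IsScalarTower B R M]

namespace LiftSys

variable (L : LiftSys g)

/-- The differentials, linearly over `R`. -/
noncomputable def dR (i : ℕ) : (M : Type u) ⊗[B] (L.J (i + 1) →₀ B) →ₗ[R] (M : Type u) ⊗[B] (L.J i →₀ B) :=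
  TensorProduct.AlgebraTensorModule.lTensor R M (L.D i)

theorem dR_apply (i : ℕ) (z) : L.dR M i z = L.dT M i z := rfl

/-- The homology in degree `q`. -/
abbrev H (q : ℕ) : Type u :=
  LinearMap.ker (L.dR M q) ⧸ (LinearMap.range (L.dR M (q + 1))).comap (LinearMap.ker (L.dR M q)).subtype

include hker in
theorem g_smul_M (m : M) : g • m = 0 := by
  rw [← algebraMap_smul R g m, show algebraMap B R g = 0 from RingHom.mem_ker.1
    (hker ▸ Ideal.mem_span_singleton_self g), zero_smul]

include hker hg in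
/-- Periodicity of the homology. -/
theorem periodic {d : ℕ} (hM : FD B d M) (p : ℕ) (hp : d ≤ p) : Nonempty (L.H M (p + 2) ≃ₗ[R] L.H M p) := by
  have hgM := g_smul_M (R := R) hker M
  let s : (M : Type u) ⊗[B] (L.J (p + 3) →₀ B) →ₗ[R] (M : Type u) ⊗[B] (L.J (p + 1) →₀ B) :=
    TensorProduct.AlgebraTensorModule.lTensor R M (L.S (p + 1))
  have hs : ∀ z, L.dR M p (s z) = L.sT M p (L.dR M (p + 2) z) := fun z => L.dT_sT hg p z
  let s' : LinearMap.ker (L.dR M (p + 2)) →ₗ[R] LinearMap.ker (L.dR M p) := s.restrict fun z hz => by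
    rw [LinearMap.mem_ker] at hz ⊢
    rw [hs, hz, map_zero]
  let f := ((LinearMap.range (L.dR M (p + 1))).comap (LinearMap.ker (L.dR M p)).subtype).mkQ ∘ₗ s'
  have hf : Function.Surjective f := by
    intro y
    obtain ⟨⟨y, hy⟩, rfl⟩ := Submodule.Quotient.mk_surjective _ y
    obtain ⟨u, v, hu, hv⟩ := L.key hg hgM hM p hp 0 y (map_zero _) (by
      rw [map_zero, zero_add, ← dR_apply]; exact hy)
    have hu' : u ∈ LinearMap.ker (L.dR M (p + 2)) := hu.symm
    refine ⟨⟨-u, neg_mem hu'⟩, (Submodule.Quotient.eq _).2 ⟨v, ?_⟩⟩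
    change L.dT M (p + 1) v = s (-u) - y
    rw [hv, map_neg]
    change _ = -L.sT M (p + 1) u - _
    abel
  have hker' : LinearMap.ker f =
      (LinearMap.range (L.dR M (p + 3))).comap (LinearMap.ker (L.dR M (p + 2))).subtype := by
    ext ⟨x, hx⟩
    rw [LinearMap.mem_ker, LinearMap.comp_apply, Submodule.mkQ_apply, Submodule.Quotient.mk_eq_zero]
    simp only [Submodule.mem_comap, Submodule.coe_subtype]
    constructor
    · rintro ⟨w, hw⟩
      obtain ⟨u, v, hu, -⟩ := L.key hg hgM hM (p + 1) (by omega) x (-w) hx (by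
        change s x + _ = 0
        rw [map_neg, ← dR_apply, hw]
        exact add_neg_cancel _)
      exact ⟨u, hu.symm⟩
    · rintro ⟨w, rfl⟩
      exact ⟨L.sT M (p + 2) w, L.dT_sT hg (p + 1) w⟩
  exact ⟨(Submodule.quotEquivOfEq _ _ hker'.symm).trans (f.quotKerEquivOfSurjective hf)⟩

include hker hg in
/-- Values of derivations at `g` kill the homology. -/
theorem smul_H {d : ℕ} (hM : FD B d M) {A : Type u} [CommRing A] [Algebra A B] (δ : Derivation A B B) (p : ℕ)
    (hp : d ≤ p) (x : L.H M p) : algebraMap B R (δ g) • x = 0 := by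
  have hgM := g_smul_M (R := R) hker M
  obtain ⟨⟨y, hy⟩, rfl⟩ := Submodule.Quotient.mk_surjective _ x
  rw [← Submodule.Quotient.mk_smul, Submodule.Quotient.mk_eq_zero]
  obtain ⟨w, hw⟩ := L.smul_mem_range hg hgM hM δ p hp y hy
  refine ⟨w, ?_⟩
  change L.dT M (p + 1) w = algebraMap B R (δ g) • y
  rw [hw, algebraMap_smul]

end LiftSys

include hsurj hker in
/-- `Tor^R` as the homology of a lifted resolution. -/
theorem exists_tor_equiv [Module B N] [IsScalarTower B R N] :
    ∃ L : LiftSys g, ∀ q, Nonempty ((((Tor (ModuleCat.{u} R) q).obj M).obj N : ModuleCat.{u} R) ≃ₗ[R] L.H M q) := by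
  classical
  refine ⟨LiftSys.mk' g N, fun q => ?_⟩
  set L := LiftSys.mk' g N
  have hg0 : algebraMap B R g = 0 := RingHom.mem_ker.1 (hker ▸ Ideal.mem_span_singleton_self g)
  have hgR : ∀ {Y : Type u} [AddCommGroup Y] [Module B Y] (z : R ⊗[B] Y), g • z = 0 := fun z =>
    LiftSys.g_smul (fun r : R => by rw [Algebra.smul_def, hg0, zero_mul]) z
  have hone : ∀ {Y : Type u} [AddCommGroup Y] [Module B Y] (z : R ⊗[B] Y), ∃ x, (1 : R) ⊗ₜ[B] x = z :=
    fun z => TensorProduct.mk_surjective B _ R hsurj z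
  have hzero : ∀ {ι : Type u} (x : ι →₀ B), (1 : R) ⊗ₜ[B] x = 0 → ∃ z, x = g • z := fun {ι} x hx => by
    have h : ∀ k, ∃ c, x k = g * c := fun k => by
      have h1 := congrArg (fun t => TensorProduct.finsuppScalarRight B B R ι t k) hx
      simp only [TensorProduct.finsuppScalarRight_apply_tmul_apply, map_zero, Finsupp.zero_apply] at h1
      rw [← Algebra.algebraMap_eq_smul_one, ← RingHom.mem_ker, hker, Ideal.mem_span_singleton] at h1
      exact h1
    choose c hc using h
    refine ⟨∑ k ∈ x.support, Finsupp.single k (c k), ?_⟩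
    rw [Finset.smul_sum]
    conv_lhs => rw [← Finsupp.sum_single x]
    exact Finset.sum_congr rfl fun k _ => by rw [Finsupp.smul_single, smul_eq_mul, ← hc]
  let X : ℕ → ModuleCat.{u} R := fun k => ModuleCat.of R (R ⊗[B] (L.J (k + 1) →₀ B))
  let d : ∀ k, X (k + 1) ⟶ X k := fun k => ModuleCat.ofHom ((L.D (k + 1)).baseChange R)
  let Q : ChainComplex (ModuleCat.{u} R) ℕ := ChainComplex.of X d fun k => by
    refine ModuleCat.hom_ext (LinearMap.ext fun z => ?_)
    obtain ⟨x, rfl⟩ := hone z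
    change (1 : R) ⊗ₜ[B] L.D (k + 1) (L.D (k + 2) x) = 0
    rw [L.sq, TensorProduct.tmul_smul, hgR]
  have hdQ : ∀ k, Q.d (k + 1) k = d k := fun k => ChainComplex.of_d _ _ _
  let ε : Q.X 0 ⟶ N := ModuleCat.ofHom ((aug g N).liftBaseChange R)
  have w : Q.d 1 0 ≫ ε = 0 := by
    rw [hdQ 0]
    refine ModuleCat.hom_ext (LinearMap.ext fun z => ?_)
    obtain ⟨x, rfl⟩ := hone z
    change (1 : R) • aug g N (dd g N 1 x) = 0
    rw [one_smul, ← LinearMap.mem_ker, ker_aug]
    exact LinearMap.mem_range_self _ x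
  have he : Epi ε := (ModuleCat.epi_iff_surjective _).2 fun y => by
    obtain ⟨x, hx⟩ := aug_surjective g N y
    exact ⟨(1 : R) ⊗ₜ[B] x, (one_smul R _).trans hx⟩
  have hex0 : (ShortComplex.mk _ _ w).Exact := by
    rw [ShortComplex.moduleCat_exact_iff]
    intro z hz
    obtain ⟨x, rfl⟩ := hone (Y := (st g N 1).1 →₀ B) z
    change (1 : R) • aug g N x = 0 at hz
    obtain ⟨v, rfl⟩ := ((SetLike.ext_iff.1 (ker_aug g N)) x).1
      (LinearMap.mem_ker.2 ((one_smul R _).symm.trans hz))
    refine ⟨(1 : R) ⊗ₜ[B] v, ?_⟩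
    change Q.d 1 0 _ = _
    rw [hdQ 0]
    rfl
  have hexact : ∀ k, Q.ExactAt (k + 1) := fun k => by
    rw [HomologicalComplex.exactAt_iff' _ (k + 2) (k + 1) k (by simp) (by simp), ShortComplex.moduleCat_exact_iff]
    intro z hz
    change Q.d (k + 1) k z = 0 at hz
    rw [hdQ] at hz
    obtain ⟨x, rfl⟩ := hone z
    obtain ⟨y, hy⟩ := hzero _ (hz : (1 : R) ⊗ₜ[B] L.D (k + 1) x = 0)
    obtain ⟨a, b, hab⟩ := L.exact k x y hy
    refine ⟨(1 : R) ⊗ₜ[B] a, ?_⟩
    change Q.d (k + 2) (k + 1) _ = _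
    rw [hdQ, hab, TensorProduct.tmul_add, TensorProduct.tmul_smul, hgR, add_zero]
    rfl
  have hflat : ∀ k, Module.Flat R (Q.X k) := fun k =>
    inferInstanceAs (Module.Flat R (R ⊗[B] (L.J (k + 1) →₀ B)))
  let i₁ := (Lib.Tor.Balance.torIsoOfFlatResolution Q hflat hexact ε w he hex0 q).app M
  let i₂ := Lib.Tor.Balance.torFlipIso N M q
  let θ : ∀ k, (R ⊗[B] (L.J (k + 1) →₀ B)) ⊗[R] (M : Type u) ≃ₗ[R] (M : Type u) ⊗[B] (L.J (k + 1) →₀ B) :=
    fun k => (TensorProduct.comm R _ (M : Type u)).trans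
      (TensorProduct.AlgebraTensorModule.cancelBaseChange B R R M (L.J (k + 1) →₀ B))
  have hθ : ∀ k z, θ k (LinearMap.rTensor M (d k).hom z) = L.dR M (k + 1) (θ (k + 1) z) := fun k z => by
    induction z using TensorProduct.induction_on with
    | zero => simp
    | add a b ha hb => simp only [map_add, ha, hb]
    | tmul t m =>
      obtain ⟨x, rfl⟩ := hone t
      simp only [θ, d, LiftSys.dR, LinearMap.rTensor_tmul, LinearEquiv.trans_apply, TensorProduct.comm_tmul,
        ModuleCat.hom_ofHom, LinearMap.baseChange_tmul]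
      rfl
  let K := ((MonoidalCategory.tensorRight M).mapHomologicalComplex (ComplexShape.down ℕ)).obj Q
  have hKd : ∀ k (z : (R ⊗[B] (L.J (k + 1 + 1) →₀ B)) ⊗[R] (M : Type u)),
      K.d (k + 1) k z = LinearMap.rTensor M (d k).hom z := fun k z => by
    change LinearMap.rTensor M (Q.d (k + 1) k).hom z = _
    rw [hdQ]
  obtain ⟨eh⟩ := homology_iso (K.sc q) (θ q) (LinearMap.ker (L.dR M q)) (LinearMap.range (L.dR M (q + 1)))
    (fun z => by
      cases q with
      | zero =>
        refine iff_of_true ?_ ?_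
        · change K.d 0 ((ComplexShape.down ℕ).next 0) z = 0
          rw [K.shape _ _ (by simp)]
          rfl
        · rw [LinearMap.mem_ker, LiftSys.dR_apply]
          have h0 : L.D 0 = 0 := rfl
          rw [LiftSys.dT, h0, LinearMap.lTensor_zero, LinearMap.zero_apply]
      | succ k =>
        change K.d (k + 1) ((ComplexShape.down ℕ).next (k + 1)) z = 0 ↔ _
        rw [ChainComplex.next_nat_succ, LinearMap.mem_ker]
        exact ((θ k).map_eq_zero_iff).symm.trans
          (Eq.congr_left ((congrArg (θ k) (hKd k z)).trans (hθ k z))))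
    (fun z => by
      change (∃ w, K.d ((ComplexShape.down ℕ).prev q) q w = z) ↔ _
      rw [ChainComplex.prev]
      constructor
      · rintro ⟨w, rfl⟩
        exact ⟨θ (q + 1) w, ((congrArg (θ q) (hKd q w)).trans (hθ q w)).symm⟩
      · rintro ⟨w, hw⟩
        refine ⟨(θ (q + 1)).symm w, (θ q).injective ?_⟩
        rw [hKd, hθ, LinearEquiv.apply_symm_apply]
        exact hw)
  exact ⟨(i₂.symm ≪≫ i₁.symm).toLinearEquiv.trans eh⟩

end Groth.Agent.H20.HyperTor
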